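import Groth.Prelude.Def_ModSt
import Groth.Agent.AlgSt88.Fibred
import Groth.Agent.FlatMor66.BCStalk
import Groth.Agent.LimTop61.ModDescent

set_option autoImplicit false
set_option maxHeartbeats 400000
set_option backward.isDefEq.respectTransparency.types false

/-!
# Families of modules are fibred in groupoids
-/

noncomputable section

universe u

open CategoryTheory CategoryTheory.Limits AlgebraicGeometry

namespace Groth.Agent.H98ModSt

open ModSt

variable {Y Z W : Scheme.{u}}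

lemma isCart_unit (h : Y ⟶ Z) (N : Z.Modules) :
    IsCart h ((Scheme.Modules.pullbackPushforwardAdjunction h).unit.app N) := by
  intro M'
  have := ((Scheme.Modules.pullbackPushforwardAdjunction h).homEquiv N M').bijective
  exact this

/-- The action of a morphism out of `M` on a composed comparison map. -/
lemma comp_map {h₁ : Y ⟶ Z} {h₂ : Z ⟶ W} {P : W.Modules} {N : Z.Modules} {M M' : Y.Modules}
    (c₁ : N ⟶ (Scheme.Modules.pushforward h₁).obj M) (c₂ : P ⟶ (Scheme.Modules.pushforward h₂).obj N)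
    (v : M ⟶ M') :
    (c₂ ≫ (Scheme.Modules.pushforward h₂).map c₁ ≫ (Scheme.Modules.pushforwardComp h₁ h₂).hom.app M) ≫
        (Scheme.Modules.pushforward (h₁ ≫ h₂)).map v =
      ((Scheme.Modules.pushforwardComp h₁ h₂).app M').homToEquiv
        (c₂ ≫ (Scheme.Modules.pushforward h₂).map (c₁ ≫ (Scheme.Modules.pushforward h₁).map v)) := by
  simp only [Iso.homToEquiv_apply, Iso.app_hom, Category.assoc, Functor.map_comp]
  rw [← (Scheme.Modules.pushforwardComp h₁ h₂).hom.naturality v]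
  rfl

/-- Left cancellation of cartesian maps. -/
lemma isCart_of_comp {h₁ : Y ⟶ Z} {h₂ : Z ⟶ W} {P : W.Modules} {N : Z.Modules} {M : Y.Modules}
    (c₁ : N ⟶ (Scheme.Modules.pushforward h₁).obj M) {c₂ : P ⟶ (Scheme.Modules.pushforward h₂).obj N}
    (hc₂ : IsCart h₂ c₂)
    (hc : IsCart (h₁ ≫ h₂) (c₂ ≫ (Scheme.Modules.pushforward h₂).map c₁ ≫
      (Scheme.Modules.pushforwardComp h₁ h₂).hom.app M)) : IsCart h₁ c₁ := by
  intro M'
  constructor
  · intro v w hvw
    refine (hc M').1 ?_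
    show _ ≫ _ = _ ≫ _
    rw [comp_map, comp_map]
    exact congrArg _ (congrArg (fun t => c₂ ≫ (Scheme.Modules.pushforward h₂).map t) hvw)
  · intro w
    obtain ⟨v, hv⟩ := (hc M').2
      (((Scheme.Modules.pushforwardComp h₁ h₂).app M').homToEquiv
        (c₂ ≫ (Scheme.Modules.pushforward h₂).map w))
    refine ⟨v, (hc₂ _).1 ?_⟩
    exact (((Scheme.Modules.pushforwardComp h₁ h₂).app M').homToEquiv).injective
      ((comp_map c₁ c₂ v).symm.trans hv)

lemma map_eqToHom_heq (M : Y.Modules) {A B : Y.Opens} (h : B = A) (v : Γ(M, A)) :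
    HEq v (M.presheaf.map (eqToHom h).op v) := by
  subst h
  simp

variable {X S : Scheme.{u}} {f : X ⟶ S}

/-- Existence and uniqueness of factorizations. -/
theorem existsUnique_fac {z y x : Obj f} (φ : y ⟶ x) (ψ : z ⟶ x) (g : z.base ⟶ y.base)
    (hg : g ≫ φ.base = ψ.base) : ∃! χ : z ⟶ y, χ.base = g ∧ χ ≫ φ = ψ := by
  have hP := φ.isPullback_top
  have hw : ψ.top ≫ x.q = (z.q ≫ g.left) ≫ φ.base.left := by
    rw [ψ.w_q, ← hg, Over.comp_left, Category.assoc]
  let t : z.XT ⟶ y.XT := hP.lift ψ.top (z.q ≫ g.left) hw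
  have ht1 : t ≫ φ.top = ψ.top := hP.lift_fst _ _ _
  have ht2 : t ≫ y.q = z.q ≫ g.left := hP.lift_snd _ _ _
  let e := (Scheme.Modules.pushforwardComp t φ.top) ≪≫ Scheme.Modules.pushforwardCongr ht1
  obtain ⟨c, hc⟩ := (φ.cart _).2 (ψ.c ≫ e.inv.app z.E)
  have hc' : φ.c ≫ (Scheme.Modules.pushforward φ.top).map c ≫ e.hom.app z.E = ψ.c := by
    have := congrArg (· ≫ e.hom.app z.E) hc
    simp only [Category.assoc, Iso.inv_hom_id_app] at this
    exact this.trans (Category.comp_id _)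
  have hcart : IsCart t c := by
    refine isCart_of_comp c φ.cart fun M' => ?_
    have h2 := (ψ.cart.compNatIso (Scheme.Modules.pushforwardCongr ht1).symm) M'
    have h3 : ψ.c ≫ (Scheme.Modules.pushforwardCongr ht1).symm.hom.app z.E =
        φ.c ≫ (Scheme.Modules.pushforward φ.top).map c ≫
          (Scheme.Modules.pushforwardComp t φ.top).hom.app z.E := by
      rw [← hc']
      simp [e]
    rw [h3] at h2
    exact h2
  let χ : z ⟶ y := ⟨g, t, by rw [← φ.w_p, ← Category.assoc, ht1, ψ.w_p], ht2, c, hcart⟩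
  have key : χ ≫ φ = ψ := by
    refine Obj.Hom.ext' hg ht1 fun U s => ?_
    have h4 := congrArg (fun m => m.app U s) hc'
    refine HEq.trans ?_ (heq_of_eq h4)
    have : (e.hom.app z.E).app U = z.E.presheaf.map (eqToHom (by rw [← ht1]; rfl)).op := by
      simp [e]
    show HEq (χ.c.app (φ.top ⁻¹ᵁ U) (φ.c.app U s)) ((e.hom.app z.E).app U (c.app (φ.top ⁻¹ᵁ U) (φ.c.app U s)))
    rw [this]
    exact map_eqToHom_heq z.E _ _
  refine ⟨χ, ⟨rfl, key⟩, ?_⟩
  rintro χ' ⟨hb, hχ'⟩
  have htop : χ'.top = t := by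
    refine hP.hom_ext ?_ ?_
    · rw [ht1, ← Obj.comp_top, hχ']
    · rw [ht2, χ'.w_q, hb]
  obtain ⟨b', t', wp', wq', c'', hcart'⟩ := χ'
  dsimp only at hb htop
  subst hb
  subst htop
  have hcc : c'' = c := by
    refine (φ.cart _).1 ?_
    show φ.c ≫ _ = φ.c ≫ _
    refine Scheme.Modules.hom_ext _ _ fun U => ?_
    ext s
    have h6 : ((⟨b', t, wp', wq', c'', hcart'⟩ : z ⟶ y) ≫ φ) = χ ≫ φ := hχ'.trans key.symm
    have h7 : HEq (((⟨b', t, wp', wq', c'', hcart'⟩ : z ⟶ y) ≫ φ).c.app U s) ((χ ≫ φ).c.app U s) := by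
      rw [h6]
    exact eq_of_heq h7
  subst hcc
  rfl

/-- The base change of an object. -/
def lift (A : Obj f) {V : Over S} (g : V ⟶ A.base) : Obj f where
  base := V
  XT := pullback A.q g.left
  p := pullback.fst A.q g.left ≫ A.p
  q := pullback.snd A.q g.left
  isPullback := by
    have := (IsPullback.of_hasPullback A.q g.left).paste_horiz A.isPullback
    rwa [Over.w g] at this
  E := (Scheme.Modules.pullback (pullback.fst A.q g.left)).obj A.E

/-- The projection from the base change. -/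
def liftHom (A : Obj f) {V : Over S} (g : V ⟶ A.base) : lift A g ⟶ A where
  base := g
  top := pullback.fst A.q g.left
  w_p := rfl
  w_q := pullback.condition
  c := (Scheme.Modules.pullbackPushforwardAdjunction _).unit.app A.E
  cart := isCart_unit _ _

lemma isCohObj_lift (A : Obj f) (hA : IsCohObj A) {V : Over S} (g : V ⟶ A.base) :
    IsCohObj (lift A g) := by
  haveI : CohB1.IsFP A.E := hA.2
  have hq : Coh.IsQCoh A.E := by
    obtain ⟨σ, -⟩ := SheafOfModules.IsFinitePresentation.exists_quasicoherentData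
      (R := A.XT.ringCatSheaf) (M := A.E)
    exact σ.isQuasicoherent
  exact ⟨fun x => FlatMor66.isFlatOverAt_baseChange (IsPullback.of_hasPullback A.q g.left) A.E hq x
    (hA.1 _), LimTop61.isFP_pullback _ A.E⟩

theorem isFibGrpd_coh (f : X ⟶ S) : FibCat.IsFibGrpd (ModSt.Coh f).p := by
  refine AlgSt88.isFibGrpd_of (fun {x V} g => ?_) (fun {z y x} φ ψ g hg => ?_)
  · refine ⟨⟨lift x.obj g, isCohObj_lift x.obj x.property g⟩, rfl, ObjectProperty.homMk (liftHom x.obj g), ?_⟩
    exact (Category.id_comp g).symm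
  · obtain ⟨χ, ⟨h1, h2⟩, huniq⟩ := existsUnique_fac φ.hom ψ.hom g hg
    exact ⟨ObjectProperty.homMk χ, ⟨h1, ObjectProperty.hom_ext _ h2⟩, fun χ' ⟨e1, e2⟩ =>
      ObjectProperty.hom_ext _ (huniq χ'.hom ⟨e1, congrArg (·.hom) e2⟩)⟩

end Groth.Agent.H98ModSt
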